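import Cfsg.Agent.NilpotentPerm.Numeric
import Cfsg.Agent.NilpotentCover.Basic

/-!
# Orders of nilpotent permutation groups

A transitive nilpotent group of degree `n` has order dividing `H n`; a nilpotent group of degree
`n` has order at most `cap n / 2`, one of odd order at most `3 ^ ((n - 1) / 2)`.
-/

set_option autoImplicit false

namespace CfsgLib.NilpotentPerm

open Equiv
open scoped Nat

/-- The `2`-part and the odd part of a finite nilpotent subgroup. -/
theorem exists_split {G : Type*} [Group G] [Finite G] (N : Subgroup G) (hN : Group.IsNilpotent N) :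
    ∃ P D : Subgroup G, P ≤ N ∧ D ≤ N ∧ IsPGroup 2 P ∧ Odd (Nat.card D) ∧ Group.IsNilpotent D ∧
      Nat.card N = Nat.card P * Nat.card D ∧ P ⊔ D = N ∧
      ∀ x ∈ P, ∀ y ∈ D, Commute x y := by
  classical
  have : Fact (Nat.Prime 2) := ⟨Nat.prime_two⟩
  obtain ⟨S⟩ : Nonempty (Sylow 2 N) := Sylow.nonempty
  have hn : (S : Subgroup N).Normal := inferInstance
  obtain ⟨C, hC⟩ := Subgroup.exists_right_complement'_of_coprime (N := (S : Subgroup N))
    S.card_coprime_index
  have hCi : Nat.card C = (S : Subgroup N).index := hC.symm.index_eq_card.symm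
  have hodd : Odd (Nat.card C) := by
    rw [Nat.odd_iff, hCi]
    have := S.not_dvd_index
    omega
  refine ⟨(S : Subgroup N).map N.subtype, C.map N.subtype, Subgroup.map_subtype_le _,
    Subgroup.map_subtype_le _, S.isPGroup'.map _, ?_, ?_, ?_, ?_, ?_⟩
  · rwa [Subgroup.card_map_of_injective N.subtype_injective]
  · exact Group.nilpotent_of_surjective (N.subtype.subgroupMap C)
      (N.subtype.subgroupMap_surjective C)
  · rw [Subgroup.card_map_of_injective N.subtype_injective,
      Subgroup.card_map_of_injective N.subtype_injective, hC.card_mul_card]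
  · rw [← Subgroup.map_sup, hC.sup_eq_top, ← MonoidHom.range_eq_map, Subgroup.range_subtype]
  · rintro _ ⟨x, hx, rfl⟩ _ ⟨y, hy, rfl⟩
    refine congrArg Subtype.val (CfsgLib.NilpotentCover.commute_of_coprime x y ?_)
    have hco : (Nat.card (S : Subgroup N)).Coprime (Nat.card C) := by
      rw [hCi]; exact S.card_coprime_index
    exact (hco.coprime_dvd_left (Subgroup.orderOf_dvd_natCard _ hx)).coprime_dvd_right
      (Subgroup.orderOf_dvd_natCard _ hy)

/-- A transitive nilpotent group of degree `n` has order dividing `H n`. -/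
theorem transitive_card_dvd {G X : Type*} [Group G] [Finite G] [Group.IsNilpotent G]
    [MulAction G X] [Finite X] [Nonempty X] [FaithfulSMul G X] [MulAction.IsPretransitive G X] :
    Nat.card G ∣ H (Nat.card X) := by
  classical
  have hle : ∀ p : ℕ, p.Prime → (Nat.card G).factorization p ≤
      ((p ^ (Nat.card X).factorization p) !).factorization p := by
    intro p hp
    have : Fact p.Prime := ⟨hp⟩
    obtain ⟨S⟩ : Nonempty (Sylow p G) := Sylow.nonempty
    have hn : (S : Subgroup G).Normal := inferInstance
    have := Sylow.unique_of_normal S hn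
    obtain ⟨x⟩ := ‹Nonempty X›
    set O := MulAction.orbit (S : Subgroup G) x
    -- the Sylow subgroup is faithful on its orbit
    have hfaith : Function.Injective (MulAction.toPermHom (S : Subgroup G) O) := by
      rw [injective_iff_map_eq_one]
      intro y hy
      obtain ⟨C, hC⟩ := Subgroup.exists_right_complement'_of_coprime (N := (S : Subgroup G))
        S.card_coprime_index
      have hfix : ∀ z ∈ O, (y : G) • z = z := fun z hz =>
        congrArg Subtype.val (Equiv.congr_fun hy ⟨z, hz⟩)
      apply Subtype.ext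
      refine eq_of_smul_eq_smul (α := X) fun z => ?_
      obtain ⟨g, rfl⟩ := MulAction.exists_smul_eq G x z
      obtain ⟨⟨⟨s, hs⟩, ⟨c, hc⟩⟩, hsc⟩ := hC.2 g
      have hcy : Commute (y : G) c := by
        refine CfsgLib.NilpotentCover.commute_of_coprime _ _ ?_
        exact (S.card_coprime_index.coprime_dvd_left
          (Subgroup.orderOf_dvd_natCard _ y.2)).coprime_dvd_right
          (hC.symm.index_eq_card ▸ Subgroup.orderOf_dvd_natCard _ hc)
      have hsc' : s * c = g := hsc
      have hcs : Commute s c := by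
        refine CfsgLib.NilpotentCover.commute_of_coprime _ _ ?_
        exact (S.card_coprime_index.coprime_dvd_left
          (Subgroup.orderOf_dvd_natCard _ hs)).coprime_dvd_right
          (hC.symm.index_eq_card ▸ Subgroup.orderOf_dvd_natCard _ hc)
      rw [OneMemClass.coe_one, one_smul, ← hsc', hcs.eq, smul_smul, ← mul_assoc, hcy.eq, mul_assoc,
        mul_smul, mul_smul, mul_smul, hfix (s • x) ⟨⟨s, hs⟩, rfl⟩]
    -- its orbit has `p`-power size at most the `p`-part of the degree
    obtain ⟨a, ha⟩ : ∃ a, Nat.card O = p ^ a := by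
      have h := MulAction.index_stabilizer (S : Subgroup G) x
      rw [← Nat.card_coe_set_eq] at h
      obtain ⟨a, ha⟩ := S.isPGroup'.index (MulAction.stabilizer (S : Subgroup G) x)
      exact ⟨a, h ▸ ha⟩
    have hale : a ≤ (Nat.card X).factorization p := by
      have h1 := MulAction.index_stabilizer (S : Subgroup G) x
      rw [← Nat.card_coe_set_eq, ha] at h1
      have h2 : (MulAction.stabilizer G x).index = Nat.card X :=
        MulAction.index_stabilizer_of_transitive G x
      obtain ⟨T⟩ : Nonempty (Sylow p (MulAction.stabilizer G x)) := Sylow.nonempty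
      have hTS : (T : Subgroup (MulAction.stabilizer G x)).map (MulAction.stabilizer G x).subtype ≤
          (S : Subgroup G) := by
        obtain ⟨S', hS'⟩ := (T.isPGroup'.map (MulAction.stabilizer G x).subtype).exists_le_sylow
        rwa [Subsingleton.elim S' S] at hS'
      have hTc : Nat.card (T : Subgroup (MulAction.stabilizer G x)) ∣
          Nat.card (MulAction.stabilizer (S : Subgroup G) x) := by
        rw [← Subgroup.card_map_of_injective (MulAction.stabilizer G x).subtype_injective]
        rw [show MulAction.stabilizer (S : Subgroup G) x =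
          (MulAction.stabilizer G x).subgroupOf (S : Subgroup G) from rfl]
        rw [← Subgroup.card_map_of_injective (S : Subgroup G).subtype_injective,
          Subgroup.subgroupOf_map_subtype]
        exact Subgroup.card_dvd_of_le (le_inf (Subgroup.map_subtype_le _) hTS)
      obtain ⟨b, hb⟩ := IsPGroup.iff_card.1 (S.isPGroup'.to_subgroup (MulAction.stabilizer (S : Subgroup G) x))
      rw [T.card_eq_multiplicity, hb, Nat.pow_dvd_pow_iff_le_right hp.one_lt] at hTc
      have h3 := (MulAction.stabilizer (S : Subgroup G) x).card_mul_index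
      rw [hb, h1, S.card_eq_multiplicity, ← pow_add] at h3
      have h4 := Nat.pow_right_injective hp.two_le h3
      have h5 := congrArg (fun k => k.factorization p) (MulAction.stabilizer G x).card_mul_index
      rw [h2] at h5
      rw [Nat.factorization_mul Nat.card_pos.ne' Nat.card_pos.ne', Finsupp.coe_add,
        Pi.add_apply] at h5
      omega
    have hcard : Nat.card (S : Subgroup G) ∣ (p ^ a) ! := by
      have := Subgroup.card_dvd_of_injective _ hfaith
      rwa [Nat.card_perm, ha] at this
    rw [S.card_eq_multiplicity] at hcard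
    have h6 := (hp.pow_dvd_iff_le_factorization (Nat.factorial_ne_zero _)).1 hcard
    exact h6.trans ((Nat.factorization_le_iff_dvd (Nat.factorial_ne_zero _)
      (Nat.factorial_ne_zero _)).2 (Nat.factorial_dvd_factorial
        (Nat.pow_le_pow_right hp.pos hale)) p)
  conv_lhs => rw [← Nat.prod_factorization_pow_eq_self (Nat.card_pos (α := G)).ne']
  rw [H, Finsupp.prod, Finsupp.prod]
  have hsub : (Nat.card G).factorization.support ⊆ (Nat.card X).factorization.support := by
    intro p hp
    rw [Nat.support_factorization] at hp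
    have h := hle p (Nat.prime_of_mem_primeFactors hp)
    rw [Finsupp.mem_support_iff]
    intro h0
    rw [h0, pow_zero, Nat.factorial_one, Nat.factorization_one, Finsupp.coe_zero, Pi.zero_apply] at h
    have := (Nat.prime_of_mem_primeFactors hp).factorization_pos_of_dvd Nat.card_pos.ne'
      (Nat.dvd_of_mem_primeFactors hp)
    omega
  refine (Finset.prod_dvd_prod_of_dvd _ _ fun p hp => pow_dvd_pow _ (hle p ?_)).trans
    (Finset.prod_dvd_prod_of_subset _ _ _ hsub)
  rw [Nat.support_factorization] at hp
  exact Nat.prime_of_mem_primeFactors hp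

section Orbit

variable {X : Type*} [Finite X]

/-- Either transitive, or split along an orbit. -/
theorem transitive_or_split [Nonempty X] (N : Subgroup (Perm X)) (hN : Group.IsNilpotent N) :
    Nat.card N ∣ H (Nat.card X) ∨
      ∃ (O : Set X) (A : Subgroup (Perm O)) (B : Subgroup (Perm ↥(Oᶜ))),
        Group.IsNilpotent A ∧ Group.IsNilpotent B ∧ Nat.card A ∣ Nat.card N ∧
        Nat.card B ∣ Nat.card N ∧ O.Nonempty ∧ Oᶜ.Nonempty ∧ Nat.card O ∣ Nat.card N ∧
        Nat.card N ≤ Nat.card A * Nat.card B := by
  classical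
  obtain ⟨x⟩ := ‹Nonempty X›
  set O : Set X := MulAction.orbit N x with hO
  rcases Set.eq_empty_or_nonempty Oᶜ with h | h
  · left
    rw [Set.compl_empty_iff] at h
    have : MulAction.IsPretransitive N X :=
      MulAction.isPretransitive_iff_orbit_eq_univ (G := N) (a := x) |>.2 h
    exact transitive_card_dvd
  right
  have hinv : ∀ g : N, ∀ y, (g : Perm X) y ∈ O ↔ y ∈ O := by
    intro g y
    constructor
    · intro hy
      have := MulAction.mapsTo_smul_orbit g⁻¹ x hy
      simpa [Subgroup.smul_def] using this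
    · exact fun hy => MulAction.mapsTo_smul_orbit g x hy
  have hinv' : ∀ g : N, ∀ y, (g : Perm X) y ∈ Oᶜ ↔ y ∈ Oᶜ := fun g y => not_congr (hinv g y)
  let res : N →* Perm O :=
    { toFun := fun g => (g : Perm X).subtypePerm (hinv g)
      map_one' := by ext; rfl
      map_mul' := fun _ _ => by ext; rfl }
  let resC : N →* Perm ↥(Oᶜ) :=
    { toFun := fun g => (g : Perm X).subtypePerm (hinv' g)
      map_one' := by ext; rfl
      map_mul' := fun _ _ => by ext; rfl }
  have hinj : Function.Injective (fun g : N => ((⟨res g, g, rfl⟩ : res.range),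
      (⟨resC g, g, rfl⟩ : resC.range))) := by
    intro g g' he
    apply Subtype.ext
    ext y
    by_cases hy : y ∈ O
    · exact congrArg (fun t => ((t : res.range).1 ⟨y, hy⟩ : X)) (congrArg Prod.fst he)
    · exact congrArg (fun t => ((t : resC.range).1 ⟨y, hy⟩ : X)) (congrArg Prod.snd he)
  refine ⟨O, res.range, resC.range, Group.nilpotent_of_surjective res.rangeRestrict res.rangeRestrict_surjective,
    Group.nilpotent_of_surjective resC.rangeRestrict resC.rangeRestrict_surjective,
    Subgroup.card_range_dvd res, Subgroup.card_range_dvd resC, MulAction.nonempty_orbit x, h, ?_, ?_⟩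
  · rw [hO, Nat.card_coe_set_eq, ← MulAction.index_stabilizer]
    exact Subgroup.index_dvd_card _
  · rw [← Nat.card_prod]
    exact Nat.card_le_card_of_injective _ hinj

theorem card_add_compl (O : Set X) : Nat.card O + Nat.card ↥(Oᶜ) = Nat.card X := by
  classical
  rw [← Nat.card_sum]
  exact Nat.card_congr (Equiv.Set.sumCompl O)

end Orbit

universe u

/-- **Bound for nilpotent permutation groups.** -/
theorem two_mul_card_le : ∀ (n : ℕ) {X : Type u} [Finite X] (N : Subgroup (Perm X)),
    Group.IsNilpotent N → Nat.card X = n → 2 * Nat.card N ≤ cap n := by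
  intro n
  induction n using Nat.strong_induction_on with
  | h n ih =>
    intro X _ N hN hn
    rcases isEmpty_or_nonempty X with hX | hX
    · have : Subsingleton (Perm X) := inferInstance
      rw [Nat.card_of_subsingleton (1 : N)]
      exact two_le_cap n
    rcases transitive_or_split N hN with h | ⟨O, A, B, hA, hB, -, -, hOne, hOc, -, hle⟩
    · subst hn
      have hne : Nat.card X ≠ 0 := Nat.card_pos.ne'
      refine le_trans (Nat.mul_le_mul_left 2 (Nat.le_of_dvd ?_ h)) (two_mul_H_le_cap hne)
      rw [H]
      exact Finset.prod_pos fun p hp => pow_pos (Nat.prime_of_mem_primeFactors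
        (Nat.support_factorization _ ▸ hp)).pos _
    have := hOne.to_subtype
    have := hOc.to_subtype
    have hsum := card_add_compl O
    have h1 := ih (Nat.card O) (by have := Nat.card_pos (α := ↥(Oᶜ)); omega) A hA rfl
    have h2 := ih (Nat.card ↥(Oᶜ)) (by have := Nat.card_pos (α := O); omega) B hB rfl
    have h3 := cap_mul_le (Nat.card O) (Nat.card ↥(Oᶜ))
    rw [hsum, hn] at h3
    have h4 : 2 * Nat.card A * (2 * Nat.card B) ≤ _ := Nat.mul_le_mul h1 h2
    nlinarith

theorem three_pow_add {a b c : ℕ} (h : a + b ≤ c) : 3 ^ a * 3 ^ b ≤ 3 ^ c := by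
  rw [← pow_add]; exact Nat.pow_le_pow_right (by norm_num) h

/-- Odd order. -/
theorem odd_card_le : ∀ (n : ℕ) {X : Type u} [Finite X] (D : Subgroup (Perm X)),
    Group.IsNilpotent D → Odd (Nat.card D) → Nat.card X = n →
      Nat.card D ≤ 3 ^ ((n - 1) / 2) := by
  intro n
  induction n using Nat.strong_induction_on with
  | h n ih =>
    intro X _ D hD hodd hn
    rcases isEmpty_or_nonempty X with hX | hX
    · have : Subsingleton (Perm X) := inferInstance
      rw [Nat.card_of_subsingleton (1 : D)]
      exact Nat.one_le_pow _ _ (by norm_num)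
    rcases transitive_or_split D hD with h | ⟨O, A, B, hA, hB, hAd, hBd, hOne, hOc, hOd, hle⟩
    · subst hn
      obtain ⟨a, b, hb, hab⟩ := Nat.exists_eq_pow_mul_and_not_dvd Nat.card_pos.ne' 2
        (by norm_num) (n := Nat.card X)
      have hco : Nat.Coprime (2 ^ a) b := (Nat.prime_two.coprime_iff_not_dvd.2 hb).pow_left a
      rw [hab, H_mul hco, H_two_pow] at h
      have hbo : Odd b := by rw [Nat.odd_iff]; omega
      have h2 : Nat.card D ∣ H b :=
        ((Nat.coprime_two_right.2 hodd).pow_right _).dvd_of_dvd_mul_left h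
      have hpos : 0 < H b := by
        rw [H]
        exact Finset.prod_pos fun p hp => pow_pos (Nat.prime_of_mem_primeFactors
          (Nat.support_factorization _ ▸ hp)).pos _
      refine (Nat.le_of_dvd hpos h2).trans ((H_odd_le b hbo).trans ?_)
      refine Nat.pow_le_pow_right (by norm_num) (Nat.div_le_div_right (Nat.sub_le_sub_right ?_ 1))
      rw [hab]
      exact Nat.le_mul_of_pos_left _ (Nat.two_pow_pos a)
    have := hOne.to_subtype
    have := hOc.to_subtype
    have hsum := card_add_compl O
    have p1 := Nat.card_pos (α := O)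
    have p2 := Nat.card_pos (α := ↥(Oᶜ))
    have h1 := ih (Nat.card O) (by omega) A hA (hodd.of_dvd_nat hAd) rfl
    have h2 := ih (Nat.card ↥(Oᶜ)) (by omega) B hB (hodd.of_dvd_nat hBd) rfl
    exact hle.trans ((Nat.mul_le_mul h1 h2).trans (three_pow_add (by omega)))

/-- Odd order and odd degree: transitive, or one better. -/
theorem odd_card_le_of_odd {X : Type u} [Finite X] [Nonempty X] (D : Subgroup (Perm X))
    (hD : Group.IsNilpotent D) (hodd : Odd (Nat.card D)) (hn : Odd (Nat.card X)) :
    Nat.card D ∣ H (Nat.card X) ∨ Nat.card D ≤ 3 ^ ((Nat.card X - 3) / 2) := by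
  rcases transitive_or_split D hD with h | ⟨O, A, B, hA, hB, hAd, hBd, hOne, hOc, hOd, hle⟩
  · exact Or.inl h
  right
  have := hOne.to_subtype
  have := hOc.to_subtype
  have hsum := card_add_compl O
  have p1 := Nat.card_pos (α := O)
  have p2 := Nat.card_pos (α := ↥(Oᶜ))
  have hO := hodd.of_dvd_nat hOd
  rw [Nat.odd_iff] at hO hn
  exact hle.trans ((Nat.mul_le_mul (odd_card_le _ A hA (hodd.of_dvd_nat hAd) rfl)
    (odd_card_le _ B hB (hodd.of_dvd_nat hBd) rfl)).trans (three_pow_add (by omega)))

/-- An involution centralising an odd order group gives an odd permutation centralising it. -/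
theorem exists_odd_commute {X : Type*} [Fintype X] [DecidableEq X] (D : Subgroup (Perm X))
    (hodd : Odd (Nat.card D)) (t : Perm X) (ht1 : t ≠ 1) (ht2 : t ^ 2 = 1)
    (hcomm : ∀ d ∈ D, Commute t d) :
    ∃ s : Perm X, Perm.sign s = -1 ∧ ∀ d ∈ D, Commute s d := by
  classical
  have htt : ∀ y, t (t y) = y := fun y => by rw [← Perm.mul_apply, ← pow_two, ht2, Perm.one_apply]
  obtain ⟨x, hx⟩ : ∃ x, t x ∉ MulAction.orbit D x := by
    by_contra hcon
    push Not at hcon
    refine ht1 (Perm.ext fun y => ?_)
    obtain ⟨⟨d, hd⟩, hdy⟩ := hcon y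
    have hdy' : d y = t y := hdy
    have h2 : d (d y) = y := by
      rw [hdy', ← Perm.mul_apply, ← (hcomm d hd).eq, Perm.mul_apply, hdy', htt]
    obtain ⟨k, hk⟩ : Odd (orderOf d) := hodd.of_dvd_nat (Subgroup.orderOf_dvd_natCard D hd)
    have h3 : ∀ j, ((d ^ 2) ^ j) y = y := by
      intro j
      induction j with
      | zero => simp
      | succ j ih => rw [pow_succ', Perm.mul_apply, ih, pow_two, Perm.mul_apply, h2]
    have h4 : d = (d ^ 2) ^ (k + 1) := by
      rw [← pow_mul, show 2 * (k + 1) = orderOf d + 1 by omega, pow_succ, pow_orderOf_eq_one, one_mul]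
    rw [Perm.one_apply, ← hdy', h4, h3]
  set O := MulAction.orbit D x with hO
  set Ω : Set X := O ∪ (⇑t) '' O with hΩ
  have hdisj : Disjoint O ((⇑t) '' O) := by
    rw [Set.disjoint_left]
    rintro y hy ⟨z, ⟨d, hdz⟩, rfl⟩
    obtain ⟨d', hd'⟩ := hy
    apply hx
    refine ⟨d⁻¹ * d', ?_⟩
    show ((d⁻¹ * d' : D) : Perm X) x = t x
    rw [Subgroup.coe_mul, Perm.mul_apply, show (d' : Perm X) x = t z from hd',
      ← show (d : Perm X) x = z from hdz, ← Perm.mul_apply t, (hcomm _ d.2).eq, Perm.mul_apply,
      Subgroup.coe_inv, Perm.inv_def, Equiv.symm_apply_apply]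
  have hΩt : ∀ y, t y ∈ Ω ↔ y ∈ Ω := by
    have h : ∀ y ∈ Ω, t y ∈ Ω := by
      rintro y (hy | ⟨z, hz, rfl⟩)
      · exact Or.inr ⟨y, hy, rfl⟩
      · rw [htt]; exact Or.inl hz
    exact fun y => ⟨fun hy => by simpa [htt] using h _ hy, h y⟩
  have hΩd : ∀ d ∈ D, ∀ y, d y ∈ Ω ↔ y ∈ Ω := by
    have h : ∀ d ∈ D, ∀ y ∈ Ω, d y ∈ Ω := by
      rintro d hd y (hy | ⟨z, hz, rfl⟩)
      · exact Or.inl (MulAction.mapsTo_smul_orbit (⟨d, hd⟩ : D) x hy)
      · refine Or.inr ⟨d z, MulAction.mapsTo_smul_orbit (⟨d, hd⟩ : D) x hz, ?_⟩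
        rw [← Perm.mul_apply, (hcomm d hd).eq, Perm.mul_apply]
    intro d hd y
    refine ⟨fun hy => ?_, h d hd y⟩
    simpa using h d⁻¹ (D.inv_mem hd) _ hy
  let s : Perm X := Perm.ofSubtype (t.subtypePerm (p := fun y => y ∈ Ω) hΩt)
  have hs : ∀ y, s y = if y ∈ Ω then t y else y := by
    intro y
    by_cases hy : y ∈ Ω
    · rw [if_pos hy, Perm.ofSubtype_apply_of_mem _ hy]; rfl
    · rw [if_neg hy]; exact Perm.ofSubtype_apply_of_not_mem _ hy
  refine ⟨s, ?_, fun d hd => Perm.ext fun y => ?_⟩
  · have hs2 : s ^ 2 = 1 := Perm.ext fun y => by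
      rw [pow_two, Perm.mul_apply, Perm.one_apply, hs, hs]
      by_cases hy : y ∈ Ω
      · rw [if_pos hy, if_pos ((hΩt y).2 hy), htt]
      · simp [hy]
    have hsupp : (s.support : Set X) = Ω := by
      ext y
      simp only [Finset.mem_coe, Perm.mem_support, hs]
      by_cases hy : y ∈ Ω
      · rw [if_pos hy]
        simp only [hy, iff_true]
        intro he
        rcases hy with hy | ⟨z, hz, rfl⟩
        · exact Set.disjoint_left.1 hdisj hy ⟨y, hy, he⟩
        · rw [htt] at he
          exact Set.disjoint_left.1 hdisj hz ⟨z, hz, he.symm⟩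
      · simp [hy]
    have hcardsupp : s.support.card = 2 * Nat.card O := by
      rw [← Set.ncard_coe_finset, hsupp, hΩ, Set.ncard_union_eq hdisj,
        Set.ncard_image_of_injective _ t.injective, Nat.card_coe_set_eq]
      omega
    have hall := Perm.pow_prime_eq_one_iff.1 hs2
    have hrep : s.cycleType = Multiset.replicate (Multiset.card s.cycleType) 2 :=
      Multiset.eq_replicate.2 ⟨rfl, hall⟩
    have hsum : s.cycleType.sum = 2 * Multiset.card s.cycleType := by
      conv_lhs => rw [hrep]
      rw [Multiset.sum_replicate, smul_eq_mul, mul_comm]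
    rw [Perm.sum_cycleType, hcardsupp] at hsum
    rw [Perm.sign_of_cycleType, Perm.sum_cycleType, hcardsupp,
      show Multiset.card s.cycleType = Nat.card O by omega,
      show 2 * Nat.card O + Nat.card O = 3 * Nat.card O by ring]
    refine Odd.neg_one_pow (Odd.mul (by decide) ?_)
    refine hodd.of_dvd_nat ?_
    rw [hO, Nat.card_coe_set_eq, ← MulAction.index_stabilizer]
    exact Subgroup.index_dvd_card _
  · rw [Perm.mul_apply, Perm.mul_apply, hs, hs]
    by_cases hy : y ∈ Ω
    · rw [if_pos hy, if_pos ((hΩd d hd y).2 hy), ← Perm.mul_apply, (hcomm d hd).eq, Perm.mul_apply]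
    · rw [if_neg hy, if_neg fun h => hy ((hΩd d hd y).1 h)]

end CfsgLib.NilpotentPerm
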