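import Cfsg.Agent.NilpotentPerm.Bound

/-!
# Largest nilpotent subgroups of symmetric and alternating groups of degree `n ≡ 3 (mod 4)`
-/

set_option autoImplicit false

namespace CfsgLib.NilpotentPerm

open Equiv
open scoped Nat

universe u

variable {X : Type u} [Fintype X] [DecidableEq X]

/-- The pointwise stabiliser of the support. -/
def fixer (c : Perm X) : Subgroup (Perm X) := fixingSubgroup (Perm X) (c.support : Set X)

theorem mem_fixer {c g : Perm X} : g ∈ fixer c ↔ ∀ x ∈ c.support, g x = x := by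
  simp [fixer, mem_fixingSubgroup_iff, Perm.smul_def]

theorem commute_of_mem_fixer {c g : Perm X} (hg : g ∈ fixer c) : Commute g c := by
  refine Perm.Disjoint.commute fun x => ?_
  by_cases hx : x ∈ c.support
  · exact Or.inl (mem_fixer.1 hg x hx)
  · exact Or.inr (Perm.notMem_support.1 hx)

theorem card_fixer (c : Perm X) :
    Nat.card (fixer c) = (Fintype.card X - c.support.card) ! := by
  let e : Perm {x // x ∉ c.support} ≃ fixer c :=
    (Equiv.Perm.subtypeEquivSubtypePerm fun x => x ∉ c.support).trans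
      (Equiv.subtypeEquivRight fun g => by simp [mem_fixer])
  rw [← Nat.card_congr e, Nat.card_perm, Nat.card_eq_fintype_card, Fintype.card_subtype_compl,
    Fintype.card_coe]

/-- A conjugation taking one extremal pair to another. -/
theorem exists_conj {c₁ c₂ : Perm X} (h1 : c₁.IsThreeCycle) (h2 : c₂.IsThreeCycle)
    {R₁ R₂ : Subgroup (Perm X)} (hR1 : R₁ ≤ fixer c₁) (hR2 : R₂ ≤ fixer c₂)
    (hc1 : Nat.card R₁ = 2 ^ v (Fintype.card X - 3))
    (hc2 : Nat.card R₂ = 2 ^ v (Fintype.card X - 3)) :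
    ∃ g : Perm X, Subgroup.zpowers c₂ ⊔ R₂ =
      (Subgroup.zpowers c₁ ⊔ R₁).map (MulAut.conj g).toMonoidHom := by
  have : Fact (Nat.Prime 2) := ⟨Nat.prime_two⟩
  obtain ⟨g, hg⟩ := isConj_iff.1 (Perm.isConj_iff_cycleType_eq.2
    ((Perm.IsThreeCycle.cycleType h1).trans (Perm.IsThreeCycle.cycleType h2).symm))
  set R₁' := R₁.map (MulAut.conj g).toMonoidHom with hR1'
  have hle : R₁' ≤ fixer c₂ := by
    rintro _ ⟨r, hr, rfl⟩
    rw [mem_fixer]
    intro x hx
    rw [← hg, Perm.support_conj, Finset.mem_map] at hx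
    obtain ⟨y, hy, rfl⟩ := hx
    show (g * r * g⁻¹) (g y) = g y
    rw [Perm.mul_apply, Perm.mul_apply, Perm.inv_def, Equiv.symm_apply_apply,
      mem_fixer.1 (hR1 hr) y hy]
  have hcard : ∀ R : Subgroup (Perm X), R ≤ fixer c₂ → Nat.card R = 2 ^ v (Fintype.card X - 3) →
      Nat.card (R.subgroupOf (fixer c₂)) = 2 ^ (Nat.card (fixer c₂)).factorization 2 := by
    intro R hR hc
    rw [Nat.card_congr (Subgroup.subgroupOfEquivOfLe hR).toEquiv, hc, card_fixer, h2.card_support, v]
  let S₁ : Sylow 2 (fixer c₂) := Sylow.ofCard (R₁'.subgroupOf (fixer c₂)) (hcard R₁' hle (by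
    rw [hR1', Subgroup.card_map_of_injective (MulAut.conj g).injective, hc1]))
  let S₂ : Sylow 2 (fixer c₂) := Sylow.ofCard (R₂.subgroupOf (fixer c₂)) (hcard R₂ hR2 hc2)
  obtain ⟨k, hk⟩ := MulAction.exists_smul_eq (fixer c₂) S₁ S₂
  refine ⟨(k : Perm X) * g, ?_⟩
  have hkR : R₁'.map (MulAut.conj (k : Perm X)).toMonoidHom = R₂ := by
    have h := congrArg (fun S : Sylow 2 (fixer c₂) => (S : Subgroup (fixer c₂)).map (fixer c₂).subtype) hk
    simp only [Sylow.coe_subgroup_smul, Sylow.coe_ofCard, S₁, S₂] at h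
    rw [Subgroup.subgroupOf_map_subtype, inf_eq_left.2 hR2] at h
    rw [← h]
    ext y
    constructor
    · rintro ⟨r, hr, rfl⟩
      exact ⟨_, Subgroup.smul_mem_pointwise_smul ⟨r, hle hr⟩ (MulAut.conj k) _ hr, rfl⟩
    · rintro ⟨z, hz, rfl⟩
      obtain ⟨r, hr, rfl⟩ := hz
      exact ⟨r.1, hr, rfl⟩
  rw [Subgroup.map_sup, MonoidHom.map_zpowers]
  congr 1
  · congr 1
    show c₂ = (k : Perm X) * g * c₁ * ((k : Perm X) * g)⁻¹
    rw [mul_inv_rev, show (k : Perm X) * g * c₁ * (g⁻¹ * (k : Perm X)⁻¹) =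
      (k : Perm X) * (g * c₁ * g⁻¹) * (k : Perm X)⁻¹ by group, hg,
      (commute_of_mem_fixer k.2).eq, mul_inv_cancel_right]
  · rw [← hkR, hR1', Subgroup.map_map]
    congr 1

/-- The nilpotent subgroups of order `3 * 2 ^ v (n - 3)`. -/
theorem extremal (N : Subgroup (Perm X)) (hN : Group.IsNilpotent N)
    (h4 : Fintype.card X % 4 = 3) (hcard : Nat.card N = 3 * 2 ^ v (Fintype.card X - 3)) :
    ∃ (c : Perm X) (R : Subgroup (Perm X)), c.IsThreeCycle ∧ R ≤ fixer c ∧
      Nat.card R = 2 ^ v (Fintype.card X - 3) ∧ N = Subgroup.zpowers c ⊔ R := by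
  classical
  have : Fact (Nat.Prime 2) := ⟨Nat.prime_two⟩
  have : Fact (Nat.Prime 3) := ⟨Nat.prime_three⟩
  set n := Fintype.card X with hn
  set w := v (n - 3) with hw
  obtain ⟨P, D, -, -, hP, hDo, -, hmul, hsup, hcomm⟩ := exists_split N hN
  obtain ⟨k, hk⟩ := IsPGroup.iff_card.1 hP
  rw [hcard, hk] at hmul
  have hD3 : Nat.card D ∣ 3 :=
    ((Nat.coprime_two_right.2 hDo).pow_right w).dvd_of_dvd_mul_right (hmul ▸ dvd_mul_left _ _)
  have hD : Nat.card D = 3 := by
    rcases (Nat.dvd_prime Nat.prime_three).1 hD3 with h | h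
    · rw [h, mul_one] at hmul
      have h3 : 3 ∣ 2 := Nat.prime_three.dvd_of_dvd_pow (hmul ▸ dvd_mul_right 3 _)
      omega
    · exact h
  have hkw : k = w := by
    rw [hD, mul_comm 3] at hmul
    exact Nat.pow_right_injective le_rfl (Nat.eq_of_mul_eq_mul_right three_pos hmul).symm
  obtain ⟨⟨c, hcD⟩, hc⟩ := (isCyclic_of_prime_card hD).exists_generator
  have hc3 : orderOf c = 3 := by
    rw [← Subgroup.orderOf_mk _ hcD, orderOf_eq_card_of_forall_mem_zpowers hc, hD]
  have hDc : D = Subgroup.zpowers c := by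
    refine le_antisymm (fun d hd => ?_) (Subgroup.zpowers_le.2 hcD)
    obtain ⟨i, hi⟩ := hc ⟨d, hd⟩
    exact ⟨i, congrArg Subtype.val hi⟩
  obtain ⟨r, hr⟩ := Perm.cycleType_prime_order (σ := c) (hc3 ▸ Nat.prime_three)
  rw [hc3] at hr
  have hsupp : c.support.card = 3 * (r + 1) := by
    rw [← Perm.sum_cycleType, hr, Multiset.sum_replicate, smul_eq_mul, mul_comm]
  have hrn : 3 * (r + 1) ≤ n := hsupp ▸ Finset.card_le_univ _
  have hPC : P ≤ Subgroup.centralizer {c} := fun x hx => by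
    rw [Subgroup.mem_centralizer_singleton_iff]
    exact (hcomm x hx c hcD).eq
  have hr0 : r = 0 := by
    by_contra hne
    have h1 := Subgroup.card_dvd_of_le hPC
    rw [hk, Perm.nat_card_centralizer, hr, Multiset.sum_replicate, Multiset.prod_replicate,
      Multiset.toFinset_replicate, if_neg (Nat.succ_ne_zero r), Finset.prod_singleton,
      Multiset.count_replicate_self, smul_eq_mul, ← hn] at h1
    have h2 : 2 ^ k ∣ (n - (r + 1) * 3) ! * (r + 1) ! := by
      rw [mul_right_comm] at h1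
      exact ((Nat.Coprime.pow k (r + 1) (by norm_num : Nat.Coprime 2 3))).dvd_of_dvd_mul_right h1
    have h3 := (Nat.prime_two.pow_dvd_iff_le_factorization
      (mul_ne_zero (Nat.factorial_ne_zero _) (Nat.factorial_ne_zero _))).1 h2
    rw [Nat.factorization_mul (Nat.factorial_ne_zero _) (Nat.factorial_ne_zero _), Finsupp.coe_add,
      Pi.add_apply] at h3
    change k ≤ v (n - (r + 1) * 3) + v (r + 1) at h3
    have h5 := v_add_le (n - (r + 1) * 3) (r + 1)
    have h6 := v_add_le (n - 2 * (r + 1)) (2 * (r + 1))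
    rw [show n - (r + 1) * 3 + (r + 1) = n - 2 * (r + 1) by omega] at h5
    rw [show n - 2 * (r + 1) + 2 * (r + 1) = n by omega, v_even, v_mod_four h4] at h6
    omega
  subst hr0
  have hc3c : c.IsThreeCycle := hr
  refine ⟨c, P, hc3c, fun x hx => ?_, by rw [hk, hkw], by rw [← hDc, sup_comm, hsup]⟩
  rw [mem_fixer]
  intro a ha
  have hcyc := hc3c.isCycle
  have hxc : Commute x c := hcomm x hx c hcD
  have hxa : x a ∈ c.support := by
    rw [Perm.mem_support] at ha ⊢
    rw [← Perm.mul_apply, ← hxc.eq, Perm.mul_apply]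
    exact fun h => ha (x.injective h)
  obtain ⟨i, hi⟩ := (hcyc.sameCycle (Perm.mem_support.1 ha) (Perm.mem_support.1 hxa)).exists_nat_pow_eq
  have hm : ∀ m : ℕ, (x ^ m) a = (c ^ (i * m)) a := by
    intro m
    induction m with
    | zero => simp
    | succ m ih =>
      rw [pow_succ', Perm.mul_apply, ih, ← Perm.mul_apply, (hxc.pow_right _).eq, Perm.mul_apply,
        ← hi, ← Perm.mul_apply, ← pow_add, Nat.mul_succ]
  obtain ⟨j, hj⟩ := hP ⟨x, hx⟩
  have hj' : x ^ 2 ^ j = 1 := congrArg Subtype.val hj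
  have h1 := hm (2 ^ j)
  rw [hj', Perm.one_apply] at h1
  have h2 : c ^ (i * 2 ^ j) = 1 := hcyc.pow_eq_one_iff.2 ⟨a, Perm.mem_support.1 ha, h1.symm⟩
  rw [← orderOf_dvd_iff_pow_eq_one, hc3] at h2
  obtain ⟨l, rfl⟩ := ((Nat.Coprime.pow_right j (by norm_num : Nat.Coprime 3 2)).dvd_of_dvd_mul_right h2)
  rw [← hi, pow_mul, ← hc3, pow_orderOf_eq_one, one_pow, Perm.one_apply]

/-- A nilpotent subgroup of even permutations: a 2-group, or of odd order, or of index at least two
in a larger nilpotent group with odd permutations. -/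
theorem alt_cases (N : Subgroup (Perm X)) (hA : N ≤ alternatingGroup X) (hN : Group.IsNilpotent N) :
    IsPGroup 2 N ∨ Odd (Nat.card N) ∨ ∃ M : Subgroup (Perm X), Group.IsNilpotent M ∧ N ≤ M ∧
      ¬ M ≤ alternatingGroup X ∧ 2 * Nat.card N ≤ Nat.card M := by
  classical
  have : Fact (Nat.Prime 2) := ⟨Nat.prime_two⟩
  obtain ⟨P, D, hPN, hDN, hP, hDo, hDn, hmul, hsup, hcomm⟩ := exists_split N hN
  rcases eq_or_ne P ⊥ with hP1 | hP1
  · right; left
    rw [hmul, hP1, Subgroup.card_bot, one_mul]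
    exact hDo
  right; right
  obtain ⟨k, hk⟩ := IsPGroup.iff_card.1 hP
  have hk0 : k ≠ 0 := by
    rintro rfl
    exact hP1 (Subgroup.card_eq_one.1 (by rw [hk, pow_zero]))
  obtain ⟨⟨t, htP⟩, ht⟩ := exists_prime_orderOf_dvd_card' (G := P) 2
    (hk ▸ dvd_pow_self 2 hk0)
  rw [Subgroup.orderOf_mk] at ht
  obtain ⟨s, hs, hsc⟩ := exists_odd_commute D hDo t
    (fun h => by rw [h, orderOf_one] at ht; omega) (ht ▸ pow_orderOf_eq_one t)
    (fun d hd => hcomm t htP d hd)
  set C := Subgroup.centralizer (D : Set (Perm X)) with hC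
  have hPC : P ≤ C := fun x hx => Subgroup.mem_centralizer_iff.2 fun d hd => (hcomm x hx d hd).eq.symm
  obtain ⟨S, hS⟩ := (hP.comap_subtype (K := C)).exists_le_sylow
  set R : Subgroup (Perm X) := (S : Subgroup C).map C.subtype with hR
  have hRC : R ≤ C := Subgroup.map_subtype_le _
  have hPR : P ≤ R := fun x hx => ⟨⟨x, hPC hx⟩, hS hx, rfl⟩
  have hRodd : ¬ R ≤ alternatingGroup X := by
    intro hle
    have hsC : s ∈ C := Subgroup.mem_centralizer_iff.2 fun d hd => (hsc d hd).eq.symm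
    set K := (alternatingGroup X).subgroupOf C with hK
    have hKne : K ≠ ⊤ := fun h => by
      have : (⟨s, hsC⟩ : C) ∈ K := h ▸ Subgroup.mem_top _
      rw [hK, Subgroup.mem_subgroupOf, Perm.mem_alternatingGroup, hs] at this
      exact absurd this (by decide)
    have hSK : (S : Subgroup C) ≤ K := fun x hx => hle ⟨x, hx, rfl⟩
    have hidx : K.index ∣ 2 := by
      rw [hK]
      have h := Subgroup.relIndex_dvd_index_of_normal (H := alternatingGroup X) C
      refine h.trans ?_
      by_cases hX : Nontrivial X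
      · rw [alternatingGroup.index_eq_two]
      · have : Subsingleton X := not_nontrivial_iff_subsingleton.1 hX
        rw [show alternatingGroup X = ⊤ from Subsingleton.elim _ _, Subgroup.index_top]
        exact one_dvd 2
    rcases (Nat.dvd_prime Nat.prime_two).1 hidx with h | h
    · exact hKne (Subgroup.index_eq_one.1 h)
    · have h' := Subgroup.index_dvd_of_le hSK
      rw [h] at h'
      exact S.not_dvd_index h'
  -- the larger nilpotent group
  have hRD : ∀ (x : R) (y : D), Commute (R.subtype x) (D.subtype y) := fun x y =>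
    (Subgroup.mem_centralizer_iff.1 (hRC x.2) y y.2).symm
  let f : R × D →* Perm X := MonoidHom.noncommCoprod R.subtype D.subtype hRD
  have hRp : IsPGroup 2 R := S.isPGroup'.map _
  obtain ⟨l, hl⟩ := IsPGroup.iff_card.1 hRp
  have hf : Function.Injective f := by
    rw [injective_iff_map_eq_one]
    rintro ⟨x, y⟩ h
    have hxy : (x : Perm X) = (y : Perm X)⁻¹ := eq_inv_of_mul_eq_one_left h
    have hdisj : R ⊓ D = ⊥ := Subgroup.inf_eq_bot_of_coprime (by
      rw [hl]; exact (Nat.coprime_two_left.2 hDo).pow_left l)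
    have hx1 : (x : Perm X) = 1 := (Subgroup.mem_bot).1 (hdisj ▸
      Subgroup.mem_inf.2 ⟨x.2, hxy ▸ D.inv_mem y.2⟩)
    refine Prod.ext (Subtype.ext hx1) (Subtype.ext ?_)
    rw [hx1, eq_comm, inv_eq_one] at hxy
    exact hxy
  have hRn : Group.IsNilpotent R := hRp.isNilpotent
  refine ⟨f.range, Group.nilpotent_of_surjective f.rangeRestrict f.rangeRestrict_surjective, ?_, ?_, ?_⟩
  · rw [← hsup]
    refine sup_le (fun x hx => ⟨(⟨x, hPR hx⟩, 1), by simp [f]⟩)
      (fun y hy => ⟨(1, ⟨y, hy⟩), by simp [f]⟩)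
  · exact fun hle => hRodd fun x hx => hle ⟨(⟨x, hx⟩, 1), by simp [f]⟩
  · rw [← Nat.card_congr (MonoidHom.ofInjective hf).toEquiv, Nat.card_prod, hmul, ← mul_assoc]
    refine Nat.mul_le_mul_right _ ?_
    have hlt : Nat.card P < Nat.card R := by
      refine lt_of_le_of_ne (Subgroup.card_le_of_le hPR) fun h => hRodd ?_
      rw [← Subgroup.eq_of_le_of_card_ge hPR h.ge]
      exact hPN.trans hA
    rw [hk, hl] at hlt ⊢
    rw [← pow_succ']
    exact Nat.pow_le_pow_right two_pos ((Nat.pow_lt_pow_iff_right (by norm_num)).1 hlt)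

end CfsgLib.NilpotentPerm
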