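import Mathlib

/-!
# Numerical bounds for nilpotent permutation groups

`v n` is the exponent of two in `n!`; `H n` is the product over the prime powers `p ^ a` of `n`
of the order of a Sylow `p`-subgroup of the symmetric group of degree `p ^ a`.
-/

set_option autoImplicit false

namespace CfsgLib.NilpotentPerm

open scoped Nat

/-- The exponent of `2` in `n!`. -/
noncomputable def v (n : ℕ) : ℕ := (n !).factorization 2

theorem v_zero : v 0 = 0 := by simp [v]

theorem v_one : v 1 = 0 := by simp [v]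

theorem v_rec (n : ℕ) : v n = n / 2 + v (n / 2) := by
  rcases Nat.even_or_odd' n with ⟨j, rfl | rfl⟩
  · rw [v, v, show 2 * j / 2 = j by omega, Nat.factorization_factorial_mul Nat.prime_two, add_comm]
  · rw [v, v, show (2 * j + 1) / 2 = j by omega, Nat.factorial_succ,
      Nat.factorization_mul (Nat.succ_ne_zero _) (Nat.factorial_ne_zero _), Finsupp.coe_add,
      Pi.add_apply, Nat.factorization_eq_zero_of_not_dvd (by omega),
      Nat.factorization_factorial_mul Nat.prime_two]
    omega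

theorem v_mono {a b : ℕ} (h : a ≤ b) : v a ≤ v b :=
  (Nat.factorization_le_iff_dvd (Nat.factorial_ne_zero a) (Nat.factorial_ne_zero b)).2
    (Nat.factorial_dvd_factorial h) 2

theorem v_add_le (a b : ℕ) : v a + v b ≤ v (a + b) := by
  have h := (Nat.factorization_le_iff_dvd
    (mul_ne_zero (Nat.factorial_ne_zero a) (Nat.factorial_ne_zero b))
    (Nat.factorial_ne_zero (a + b))).2 (Nat.factorial_mul_factorial_dvd_factorial_add a b) 2
  rwa [Nat.factorization_mul (Nat.factorial_ne_zero a) (Nat.factorial_ne_zero b),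
    Finsupp.coe_add, Pi.add_apply] at h

theorem v_mul_le (b n : ℕ) : b * v n ≤ v (b * n) := by
  induction b with
  | zero => simp
  | succ b ih =>
    rw [Nat.succ_mul, Nat.succ_mul]
    exact le_trans (Nat.add_le_add_right ih _) (v_add_le _ _)

theorem v_two_pow (a : ℕ) : v (2 ^ a) = 2 ^ a - 1 := by
  induction a with
  | zero => simp [v_one]
  | succ a ih =>
    rw [v_rec, pow_succ, Nat.mul_div_cancel _ two_pos, ih]
    have := Nat.one_le_two_pow (n := a)
    omega

theorem two_pow_le_v (k : ℕ) : 2 ^ k ≤ 2 ^ v k * (k + 1) := by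
  induction k using Nat.strong_induction_on with
  | h k ih =>
    rcases Nat.eq_zero_or_pos k with rfl | hk
    · simp [v_zero]
    rw [v_rec, pow_add]
    have h := ih (k / 2) (by omega)
    have h2 : 2 ^ (k % 2) * (k / 2 + 1) ≤ k + 1 := by
      rcases Nat.mod_two_eq_zero_or_one k with e | e <;> rw [e] <;> omega
    calc 2 ^ k = 2 ^ (k % 2) * 2 ^ (k / 2) * 2 ^ (k / 2) := by
          rw [← pow_add, ← pow_add]; congr 1; omega
      _ ≤ 2 ^ (k % 2) * 2 ^ (k / 2) * (2 ^ v (k / 2) * (k / 2 + 1)) := Nat.mul_le_mul_left _ h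
      _ = 2 ^ (k / 2) * 2 ^ v (k / 2) * (2 ^ (k % 2) * (k / 2 + 1)) := by ring
      _ ≤ 2 ^ (k / 2) * 2 ^ v (k / 2) * (k + 1) := Nat.mul_le_mul_left _ h2

theorem v_mod_four {n : ℕ} (h : n % 4 = 3) : v n = v (n - 3) + 1 := by
  rw [v_rec n, v_rec (n / 2), v_rec (n - 3), v_rec ((n - 3) / 2),
    show (n - 3) / 2 / 2 = n / 2 / 2 by omega]
  omega

/-- Twice the largest order of a nilpotent subgroup of the symmetric group of degree `n`. -/
noncomputable def cap (n : ℕ) : ℕ := (if n % 4 = 3 then 3 else 2) * 2 ^ v n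

theorem cap_of_eq {n : ℕ} (h : n % 4 = 3) : cap n = 2 * (3 * 2 ^ v (n - 3)) := by
  rw [cap, if_pos h, v_mod_four h, pow_succ]; ring

theorem cap_of_ne {n : ℕ} (h : n % 4 ≠ 3) : cap n = 2 * 2 ^ v n := by rw [cap, if_neg h]

theorem two_le_cap (n : ℕ) : 2 ≤ cap n := by
  have := Nat.one_le_two_pow (n := v n)
  rw [cap]; split_ifs <;> omega

theorem carries (a b : ℕ) :
    v a + v b + ((a + b) / 2 - a / 2 - b / 2) + ((a + b) / 2 / 2 - a / 2 / 2 - b / 2 / 2) ≤
      v (a + b) := by
  rw [v_rec a, v_rec (a / 2), v_rec b, v_rec (b / 2), v_rec (a + b), v_rec ((a + b) / 2)]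
  have h1 := v_add_le (a / 2 / 2) (b / 2 / 2)
  have h2 := v_mono (show a / 2 / 2 + b / 2 / 2 ≤ (a + b) / 2 / 2 by omega)
  omega

theorem cap_mul_le (a b : ℕ) : cap a * cap b ≤ 2 * cap (a + b) := by
  have hc := carries a b
  simp only [cap]
  by_cases ha : a % 4 = 3 <;> by_cases hb : b % 4 = 3
  · have h4 : 2 ^ v a * 2 ^ v b * 4 ≤ 2 ^ v (a + b) := by
      rw [← pow_add, show (4 : ℕ) = 2 ^ 2 from rfl, ← pow_add]
      exact Nat.pow_le_pow_right two_pos (by omega)
    rw [if_pos ha, if_pos hb, if_neg (show ¬(a + b) % 4 = 3 by omega)]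
    nlinarith [Nat.zero_le (2 ^ v a * 2 ^ v b)]
  · rw [if_pos ha, if_neg hb]
    by_cases hb0 : b % 4 = 0
    · rw [if_pos (show (a + b) % 4 = 3 by omega)]
      have h1 : 2 ^ v a * 2 ^ v b ≤ 2 ^ v (a + b) := by
        rw [← pow_add]; exact Nat.pow_le_pow_right two_pos (v_add_le a b)
      nlinarith
    · rw [if_neg (show ¬(a + b) % 4 = 3 by omega)]
      have h2 : 2 ^ v a * 2 ^ v b * 2 ≤ 2 ^ v (a + b) := by
        rw [← pow_add, ← pow_succ]
        exact Nat.pow_le_pow_right two_pos (by omega)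
      nlinarith [Nat.zero_le (2 ^ v a * 2 ^ v b)]
  · rw [if_neg ha, if_pos hb]
    by_cases ha0 : a % 4 = 0
    · rw [if_pos (show (a + b) % 4 = 3 by omega)]
      have h1 : 2 ^ v a * 2 ^ v b ≤ 2 ^ v (a + b) := by
        rw [← pow_add]; exact Nat.pow_le_pow_right two_pos (v_add_le a b)
      nlinarith
    · rw [if_neg (show ¬(a + b) % 4 = 3 by omega)]
      have h2 : 2 ^ v a * 2 ^ v b * 2 ≤ 2 ^ v (a + b) := by
        rw [← pow_add, ← pow_succ]
        exact Nat.pow_le_pow_right two_pos (by omega)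
      nlinarith [Nat.zero_le (2 ^ v a * 2 ^ v b)]
  · rw [if_neg ha, if_neg hb]
    have h1 : 2 ^ v a * 2 ^ v b ≤ 2 ^ v (a + b) := by
      rw [← pow_add]; exact Nat.pow_le_pow_right two_pos (v_add_le a b)
    split_ifs <;> nlinarith [Nat.zero_le (2 ^ v a * 2 ^ v b)]

/-- The product of the Sylow orders of the symmetric groups on the prime power parts. -/
noncomputable def H (n : ℕ) : ℕ := n.factorization.prod fun p a => p ^ ((p ^ a) !).factorization p

theorem H_one : H 1 = 1 := by simp [H]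

theorem H_mul {a b : ℕ} (h : Nat.Coprime a b) : H (a * b) = H a * H b := by
  rw [H, Nat.factorization_mul_of_coprime h,
    Finsupp.prod_add_index_of_disjoint
      (by simpa [Nat.support_factorization] using h.disjoint_primeFactors)]
  rfl

theorem H_prime_pow {p : ℕ} (hp : p.Prime) (a : ℕ) :
    H (p ^ a) = p ^ ((p ^ a) !).factorization p := by
  rw [H, hp.factorization_pow, Finsupp.prod_single_index]
  simp

theorem factorization_factorial_prime {p : ℕ} (hp : p.Prime) : (p !).factorization p = 1 := by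
  have h := Nat.factorization_factorial_mul (p := p) (n := 1) hp
  simpa using h

theorem H_prime {p : ℕ} (hp : p.Prime) : H p = p := by
  conv_lhs => rw [← pow_one p]
  rw [H_prime_pow hp, pow_one, factorization_factorial_prime hp, pow_one]

theorem H_two_pow (a : ℕ) : H (2 ^ a) = 2 ^ (2 ^ a - 1) := by
  rw [H_prime_pow Nat.prime_two, ← v_two_pow]; rfl

theorem sq_le_three_pow {p : ℕ} (hp : 3 ≤ p) : p ^ 2 ≤ 3 ^ (p - 1) := by
  induction p, hp using Nat.le_induction with
  | base => norm_num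
  | succ p hp ih =>
    rw [show p + 1 - 1 = (p - 1) + 1 by omega]
    calc (p + 1) ^ 2 ≤ p ^ 2 * 3 := by nlinarith
      _ ≤ 3 ^ (p - 1) * 3 := Nat.mul_le_mul_right _ ih
      _ = _ := (pow_succ 3 (p - 1)).symm

theorem H_odd_le : ∀ n : ℕ, Odd n → H n ≤ 3 ^ ((n - 1) / 2) := by
  intro n
  induction n using Nat.recOnPosPrimePosCoprime with
  | prime_pow p a hp ha =>
    intro hodd
    have hp3 : 3 ≤ p := by
      have := hp.two_le
      rcases Nat.eq_or_lt_of_le this with h | h
      · subst h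
        simp [Nat.odd_iff, Nat.pow_mod, ha.ne'] at hodd
      · exact h
    rw [H_prime_pow hp]
    set e := ((p ^ a) !).factorization p
    have he : (p - 1) * e ≤ p ^ a - 1 := by
      have := Nat.sub_one_mul_factorization_factorial (n := p ^ a) hp
      rw [this]
      have hne : p.digits (p ^ a) ≠ [] := Nat.digits_ne_nil_iff_ne_zero.2 (pow_ne_zero _ hp.ne_zero)
      have h1 := Nat.getLast_digit_ne_zero p (pow_ne_zero a hp.ne_zero)
      have h2 := List.le_sum_of_mem (List.getLast_mem hne)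
      omega
    refine le_of_pow_le_pow_left₀ two_ne_zero (Nat.zero_le _) ?_
    rw [← pow_mul, ← pow_mul, mul_comm e 2, pow_mul p 2 e]
    refine (Nat.pow_le_pow_left (sq_le_three_pow hp3) e).trans ?_
    rw [← pow_mul]
    refine Nat.pow_le_pow_right (by norm_num) ?_
    rw [Nat.odd_iff] at hodd
    omega
  | zero => intro h; exact absurd h (by simp)
  | one => intro _; simp [H_one]
  | coprime a b ha hb hab iha ihb =>
    intro hodd
    obtain ⟨hao, hbo⟩ := Nat.odd_mul.1 hodd
    rw [H_mul hab]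
    refine (Nat.mul_le_mul (iha hao) (ihb hbo)).trans ?_
    rw [← pow_add]
    refine Nat.pow_le_pow_right (by norm_num) ?_
    have : a + b ≤ a * b + 1 := by nlinarith
    rw [Nat.odd_iff] at hao hbo
    omega

theorem pow_three_le_four_pow {k : ℕ} (hk : 8 ≤ k) : 3 ^ k * (k + 1) ≤ 4 ^ k := by
  induction k, hk using Nat.le_induction with
  | base => norm_num
  | succ k hk ih =>
    rw [pow_succ, pow_succ]
    nlinarith [Nat.zero_le (3 ^ k)]

theorem two_pow_three_le_four_pow {k : ℕ} (hk : 12 ≤ k) : 2 * (3 ^ k * (k + 1)) ≤ 4 ^ k := by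
  induction k, hk using Nat.le_induction with
  | base => norm_num
  | succ k hk ih =>
    rw [pow_succ, pow_succ]
    nlinarith [Nat.zero_le (3 ^ k)]

/-- `c 3 ^ k ≤ 2 ^ (k + v k)` from `c 3 ^ k (k + 1) ≤ 4 ^ k`. -/
theorem mul_pow_three_le {c k : ℕ} (h : c * (3 ^ k * (k + 1)) ≤ 4 ^ k) :
    c * 3 ^ k ≤ 2 ^ (k + v k) := by
  refine Nat.le_of_mul_le_mul_right (c := k + 1) ?_ (Nat.succ_pos k)
  calc c * 3 ^ k * (k + 1) ≤ 4 ^ k := by rw [mul_assoc]; exact h
    _ = 2 ^ k * 2 ^ k := by rw [← mul_pow]; norm_num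
    _ ≤ 2 ^ k * (2 ^ v k * (k + 1)) := Nat.mul_le_mul_left _ (two_pow_le_v k)
    _ = _ := by rw [pow_add]; ring

theorem v_odd (k : ℕ) : v (2 * k + 1) = k + v k := by
  rw [v_rec, show (2 * k + 1) / 2 = k by omega]

theorem v_even (k : ℕ) : v (2 * k) = k + v k := by
  rw [v_rec, show (2 * k) / 2 = k by omega]

theorem v_two : v 2 = 1 := by rw [v_rec]; norm_num [v_one]
theorem v_three : v 3 = 1 := by rw [v_rec]; norm_num [v_one]
theorem v_four : v 4 = 3 := by rw [v_rec]; norm_num [v_two]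
theorem v_five : v 5 = 3 := by rw [v_rec]; norm_num [v_two]
theorem v_six : v 6 = 4 := by rw [v_rec]; norm_num [v_three]
theorem v_seven : v 7 = 4 := by rw [v_rec]; norm_num [v_three]
theorem v_eight : v 8 = 7 := by rw [v_rec]; norm_num [v_four]
theorem v_nine : v 9 = 7 := by rw [v_rec]; norm_num [v_four]
theorem v_ten : v 10 = 8 := by rw [v_rec]; norm_num [v_five]
theorem v_eleven : v 11 = 8 := by rw [v_rec]; norm_num [v_five]
theorem v_twelve : v 12 = 10 := by rw [v_rec]; norm_num [v_six]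

theorem H_three : H 3 = 3 := H_prime Nat.prime_three
theorem H_five : H 5 = 5 := H_prime Nat.prime_five
theorem H_seven : H 7 = 7 := H_prime (by norm_num)
theorem H_eleven : H 11 = 11 := H_prime (by norm_num)
theorem H_thirteen : H 13 = 13 := H_prime (by norm_num)
theorem H_fifteen : H 15 = 15 := by
  rw [show (15 : ℕ) = 3 * 5 from rfl, H_mul (by norm_num), H_three, H_five]

/-- The transitive bound is within the general one. -/
theorem two_mul_H_le_cap {n : ℕ} (hn : n ≠ 0) : 2 * H n ≤ cap n := by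
  obtain ⟨a, b, hb, rfl⟩ := Nat.exists_eq_pow_mul_and_not_dvd hn 2 (by norm_num)
  have hbo : Odd b := by rw [Nat.odd_iff]; omega
  have hco : Nat.Coprime (2 ^ a) b := (Nat.prime_two.coprime_iff_not_dvd.2 hb).pow_left a
  have hcap : 2 * 2 ^ v (2 ^ a * b) ≤ cap (2 ^ a * b) := by
    rw [cap]; exact Nat.mul_le_mul_right _ (by split_ifs <;> omega)
  obtain ⟨k, rfl⟩ := hbo
  rw [H_mul hco, H_two_pow]
  rcases Nat.eq_zero_or_pos a with rfl | ha
  · simp only [pow_zero, one_mul, Nat.sub_self] at hcap ⊢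
    rw [v_odd] at hcap
    have hH : H (2 * k + 1) ≤ 3 ^ k := by
      have := H_odd_le (2 * k + 1) ⟨k, rfl⟩
      rwa [show (2 * k + 1 - 1) / 2 = k by omega] at this
    rcases Nat.lt_or_ge k 8 with hk | hk
    · interval_cases k
      · simp [H_one, cap, v_one]
      · simp [H_three, cap, v_three]
      · norm_num [H_five, cap, v_five]
      · norm_num [H_seven, cap, v_seven]
      · norm_num [v_four] at hcap hH ⊢
        omega
      · norm_num [H_eleven, v_five] at hcap hH ⊢
        omega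
      · norm_num [H_thirteen, v_six] at hcap hH ⊢
        omega
      · norm_num [H_fifteen, v_seven] at hcap hH ⊢
        omega
    · have := mul_pow_three_le (c := 1) (k := k) (by rw [one_mul]; exact pow_three_le_four_pow hk)
      omega
  · refine le_trans (Nat.mul_le_mul_left 2 ?_) hcap
    have hH : H (2 * k + 1) ≤ 3 ^ k := by
      have := H_odd_le (2 * k + 1) ⟨k, rfl⟩
      rwa [show (2 * k + 1 - 1) / 2 = k by omega] at this
    have hA : 2 ≤ 2 ^ a := Nat.le_self_pow ha.ne' 2
    have hv := v_mul_le (2 * k + 1) (2 ^ a)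
    rw [v_two_pow] at hv
    calc 2 ^ (2 ^ a - 1) * H (2 * k + 1) ≤ 2 ^ (2 ^ a - 1) * 2 ^ (2 * k * (2 ^ a - 1)) := by
          refine Nat.mul_le_mul_left _ (hH.trans ?_)
          calc 3 ^ k ≤ 4 ^ k := Nat.pow_le_pow_left (by norm_num) k
            _ = 2 ^ (2 * k) := by rw [pow_mul]; norm_num
            _ ≤ _ := Nat.pow_le_pow_right two_pos (Nat.le_mul_of_pos_right _ (by omega))
      _ ≤ 2 ^ v (2 ^ a * (2 * k + 1)) := by
          rw [← pow_add, mul_comm (2 ^ a) (2 * k + 1)]
          refine Nat.pow_le_pow_right two_pos (le_trans (le_of_eq ?_) hv)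
          ring

/-- Odd order nilpotent groups of degree `n ≢ 3 (mod 4)`. -/
theorem two_mul_three_pow_le {n : ℕ} (h2 : 2 ≤ n) (h4 : n % 4 ≠ 3) (h5 : n ≠ 5) (h6 : n ≠ 6)
    (h9 : n ≠ 9) (h13 : n ≠ 13) : 2 * 3 ^ ((n - 1) / 2) ≤ 2 ^ v n := by
  rcases Nat.even_or_odd' n with ⟨k, rfl | rfl⟩
  · rw [v_even]
    rcases Nat.lt_or_ge k 8 with hk | hk
    · interval_cases k <;> first | omega | norm_num [v_one, v_two, v_four, v_five, v_six, v_seven]
    · have h := mul_pow_three_le (c := 1) (k := k)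
        (by rw [one_mul]; exact pow_three_le_four_pow hk)
      have h' : 3 ^ k = 3 ^ (k - 1) * 3 := by rw [← pow_succ]; congr 1; omega
      rw [show (2 * k - 1) / 2 = k - 1 by omega]
      omega
  · rw [v_odd, show (2 * k + 1 - 1) / 2 = k by omega]
    rcases Nat.lt_or_ge k 12 with hk | hk
    · interval_cases k <;> first | omega | norm_num [v_eight, v_ten]
    · exact mul_pow_three_le (two_pow_three_le_four_pow hk)

end CfsgLib.NilpotentPerm
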